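import Cfsg.Agent.Lib.Helper54.UT.Defs
import Cfsg.Agent.Lib.Helper54.UT.TP
import Cfsg.Agent.Lib.Helper54.UT.CJ
import Cfsg.Agent.Lib.Helper54.UT.TAU
import Cfsg.Agent.Lib.Helper77.AschG.CaseB

set_option autoImplicit false

namespace Cfsg.Agent.Lib.Helper54.UT

open Cfsg Cfsg.Geo Cfsg.Agent.Lib.Helper77.Asch Cfsg.Agent.Lib.Helper77.AschG Cfsg.Agent.Lib.Helper5.AschC
open scoped MatrixGroups Matrix

variable {n : ℕ} {F : Type*} [Field F]

/-- CB: the tensor-induced case inside the similarity group of the standard unitary form. -/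
theorem caseB_unitary [Fintype F] (q : ℕ) (hF : Fintype.card F = q ^ 2) (h3 : 3 ≤ n) (H N : Subgroup (GL (Fin n) F))
    (hHs : H ≤ similarityGroup (hermForm n F q))
    (hm : MinOver H (scalars (Fin n) F) N) (hnab : ¬ ⁅N, N⁆ ≤ scalars (Fin n) F)
    (hN : ActsAbsolutelyIrreducibly (matrixSet N))
    (hns : ¬ ∀ M : Subgroup (GL (Fin n) F), scalars (Fin n) F ≤ M → M ≤ N → NormBy N M →
      M = scalars (Fin n) F ∨ M = N) :
    ∃ (a k : ℕ) (e : Fin n ≃ (Fin k → Fin a)) (P : GL (Fin n) F) (f₁ : (Fin a → F) → (Fin a → F) → F),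
      2 ≤ a ∧ 2 ≤ k ∧ IsUnitaryFormPow q f₁ ∧
      IsTensorPowerFormStructure (fun x : F => x ^ q) (hermForm n F q) f₁ e P ∧
      H ≤ tensorWreathSubgroup a k e P := by
  classical
  have hn : 0 < n := by omega
  have hZc : ∀ z ∈ scalars (Fin n) F, ∀ g : GL (Fin n) F, g * z = z * g :=
    fun z hz g => Cfsg.Agent.Lib.Helper77.Asch.scalars_central z hz g
  obtain ⟨Q, k, g, hk, hgH, hQN, hQZ, hQnorm, hcomm, hgen, hfac, hperm⟩ :=
    exists_commuting_conj' H (scalars (Fin n) F) N hZc hm hnab hns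
  have hA := spanAlg_norm N Q hQnorm
  obtain ⟨I, hI⟩ := exists_minIdl hn (spanAlg Q)
  obtain ⟨U, hU⟩ := ideal_faith hn N hN.1 _ hA I hI (idl_inv_of_fac Q N hfac I hI.idl)
  obtain ⟨a, φ, ha, hφ⟩ := dens _ U hU (cen_finrank_of_fac hn Q N hfac hN)
  have hcomm' : ∀ i j, i ≠ j → ∀ x y, (conjA (g i)).comp φ x * (conjA (g j)).comp φ y
      = (conjA (g j)).comp φ y * (conjA (g i)).comp φ x :=
    fun i j hij => conj_comm Q (g i) (g j) (hcomm i j hij) φ hφ
  have hnk : n = a ^ k := pw hn ha (fun i => (conjA (g i)).comp φ) hcomm'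
    (adjoin_conj_eq_top hn N Q g hN hgen φ hφ)
  obtain ⟨Ψ, hΨ⟩ := exists_tensor_hom (fun i => (conjA (g i)).comp φ) hcomm'
  obtain ⟨e, P, hP⟩ := tensor_basis_of_hom hnk Ψ
  have hslot : ∀ i x, tw e P (slot i x) = conjA (g i) (φ x) := by
    intro i x
    rw [← hP, hΨ]
    rfl
  have hle : H ≤ tensorWreathSubgroup a k e P := by
    intro h hh
    obtain ⟨σ, hσ⟩ := hperm h hh
    refine mem_tensorWreath (by omega) e P h σ (fun i x => ?_)
    have h1 : conjA (h * g i) (φ x) ∈ (spanAlg Q).map (conjA (g (σ i))) := by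
      rw [← spanAlg_conj, ← hσ i, spanAlg_conj]
      exact ⟨φ x, hφ ▸ ⟨x, rfl⟩, rfl⟩
    obtain ⟨z, hz, hz'⟩ := h1
    rw [← hφ] at hz
    obtain ⟨y, rfl⟩ := hz
    refine ⟨y, ?_⟩
    rw [hslot, hslot]
    have h2 : conjA (g (σ i)) (φ y) = conjA (h * g i) (φ x) := hz'
    rw [h2, conjA_mul]
    rfl
  have ha1 : a ≠ 1 := by
    rintro rfl
    exact hQZ (le_scalars_of_range hn φ Q hφ)
  have ha0 : 0 < a := by
    rcases Nat.eq_zero_or_pos a with h0 | h0
    · subst h0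
      rw [zero_pow (by omega)] at hnk
      omega
    · exact h0
  obtain ⟨τ, hτ⟩ := exists_tau q hF Q ((hQN.trans hm.le).trans hHs) φ hφ
  obtain ⟨f₁, hf₁, hT⟩ := tensor_power_form q hF (by omega : 0 < k) ha0 e P τ (by
    intro i x u v
    rw [hslot, hslot]
    exact adj_conj q (g i) (hHs (hgH i)) _ _ (hτ x) u v)
  exact ⟨a, k, e, P, f₁, by omega, hk, hf₁, hT, hle⟩

end Cfsg.Agent.Lib.Helper54.UT
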